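import Cfsg.Agent.EqLemmas
import Mathlib.GroupTheory.GroupAction.MultipleTransitivity

/-! A stabilizer chain for the Mathieu group of degree 12 on explicit generators. -/

set_option autoImplicit false

namespace Cfsg.Agent.MathieuTwelve

/-- A permutation of twelve points from its table and the table of its inverse. -/
def perm (f g : Fin 12 → Fin 12) (h : ∀ i, g (f i) = i ∧ f (g i) = i) : Equiv.Perm (Fin 12) :=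
  ⟨f, g, fun i => (h i).1, fun i => (h i).2⟩

def gs : Equiv.Perm (Fin 12) := perm ![0, 1, 2, 4, 5, 3, 7, 8, 6, 10, 11, 9] ![0, 1, 2, 5, 3, 4, 8, 6, 7, 11, 9, 10] (by decide)

def gt : Equiv.Perm (Fin 12) := perm ![0, 1, 2, 6, 7, 8, 9, 10, 11, 3, 4, 5] ![0, 1, 2, 9, 10, 11, 3, 4, 5, 6, 7, 8] (by decide)

def gu : Equiv.Perm (Fin 12) := perm ![0, 1, 2, 3, 6, 9, 5, 8, 11, 4, 7, 10] ![0, 1, 2, 3, 9, 6, 4, 10, 7, 5, 11, 8] (by decide)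

def gv : Equiv.Perm (Fin 12) := perm ![0, 1, 2, 3, 7, 11, 10, 5, 6, 8, 9, 4] ![0, 1, 2, 3, 11, 7, 8, 4, 9, 10, 6, 5] (by decide)

def gw : Equiv.Perm (Fin 12) := perm ![0, 1, 2, 3, 10, 8, 11, 6, 4, 7, 5, 9] ![0, 1, 2, 3, 8, 10, 7, 9, 5, 11, 4, 6] (by decide)

def gx1 : Equiv.Perm (Fin 12) := perm ![3, 1, 2, 0, 4, 5, 7, 6, 10, 11, 8, 9] ![3, 1, 2, 0, 4, 5, 7, 6, 10, 11, 8, 9] (by decide)

def gx2 : Equiv.Perm (Fin 12) := perm ![1, 0, 2, 3, 4, 5, 9, 10, 11, 6, 7, 8] ![1, 0, 2, 3, 4, 5, 9, 10, 11, 6, 7, 8] (by decide)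

def gx3 : Equiv.Perm (Fin 12) := perm ![0, 2, 1, 3, 4, 5, 11, 9, 10, 7, 8, 6] ![0, 2, 1, 3, 4, 5, 11, 9, 10, 7, 8, 6] (by decide)

theorem chain_step {α : Type*} [Finite α] {n : ℕ} (S : Set (Equiv.Perm α)) (K : Subgroup (Equiv.Perm α)) (b : α)
    (R : Fin n → Equiv.Perm α) (word : Fin n → List (Equiv.Perm α)) (i₀ : Fin n)
    (hw : ∀ i, ∀ g ∈ word i, g ∈ S) (hR : ∀ i, (word i).prod = R i) (hK : K ≤ Subgroup.closure S)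
    (hfix : ∀ k ∈ K, k b = b) (h0 : R i₀ = 1) (hinj : Function.Injective fun i => R i b)
    (hcl : ∀ g ∈ S, ∀ i, ∃ j, ∃ k ∈ K, g * R i = R j * k) :
    Nat.card ↥(Subgroup.closure S) = n * Nat.card K ∧
      ∀ g ∈ Subgroup.closure S, g b = b → g ∈ K := by
  have hRm : ∀ i, R i ∈ Subgroup.closure S := fun i => hR i ▸
    Subgroup.list_prod_mem _ fun g hg => Subgroup.subset_closure (hw i g hg)
  have hall : ∀ g ∈ Subgroup.closure S, ∃ i, ∃ k ∈ K, g = R i * k := by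
    intro g hg
    rw [← Subgroup.mem_toSubmonoid, Subgroup.closure_toSubmonoid_of_finite] at hg
    induction hg using Submonoid.closure_induction_left with
    | one => exact ⟨i₀, 1, one_mem _, by rw [h0, mul_one]⟩
    | mul_left x hx y _ ih =>
      obtain ⟨i, k, hk, rfl⟩ := ih
      obtain ⟨j, k', hk', h⟩ := hcl x hx i
      exact ⟨j, k' * k, mul_mem hk' hk, by rw [← mul_assoc, h, mul_assoc]⟩
  have hb : ∀ i, ∀ k ∈ K, (R i * k) b = R i b := fun i k hk => congrArg (R i) (hfix k hk)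
  refine ⟨?_, fun g hg hgb => ?_⟩
  · let F : Fin n × K → Subgroup.closure S := fun p => ⟨R p.1 * p.2, mul_mem (hRm _) (hK p.2.2)⟩
    have hF : Function.Bijective F := by
      refine ⟨fun p q h => ?_, fun g => ?_⟩
      · have h' : R p.1 * p.2 = R q.1 * q.2 := congrArg Subtype.val h
        have e : p.1 = q.1 := hinj (by
          simpa [hb _ _ p.2.2, hb _ _ q.2.2] using DFunLike.congr_fun h' b)
        exact Prod.ext e (Subtype.ext (by rw [e] at h'; exact mul_left_cancel h'))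
      · obtain ⟨i, k, hk, h⟩ := hall g g.2
        exact ⟨(i, ⟨k, hk⟩), Subtype.ext h.symm⟩
    rw [← Nat.card_eq_of_bijective F hF]
    simp
  · obtain ⟨i, k, hk, rfl⟩ := hall g hg
    rw [hb i k hk] at hgb
    have : i = i₀ := hinj (by simp [hgb, h0])
    rwa [this, h0, one_mul]

/-- Generators at level 1. -/
def gen1 : Fin 3 → Equiv.Perm (Fin 12) := ![gu, gv, gw]

/-- Representatives for the orbit of 4 at level 1. -/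
def rep1 : Fin 8 → Equiv.Perm (Fin 12) := ![
  1,
  (perm ![0, 1, 2, 3, 6, 9, 5, 8, 11, 4, 7, 10] ![0, 1, 2, 3, 9, 6, 4, 10, 7, 5, 11, 8] (by decide)),
  (perm ![0, 1, 2, 3, 7, 11, 10, 5, 6, 8, 9, 4] ![0, 1, 2, 3, 11, 7, 8, 4, 9, 10, 6, 5] (by decide)),
  (perm ![0, 1, 2, 3, 10, 8, 11, 6, 4, 7, 5, 9] ![0, 1, 2, 3, 8, 10, 7, 9, 5, 11, 4, 6] (by decide)),
  (perm ![0, 1, 2, 3, 5, 4, 9, 11, 10, 6, 8, 7] ![0, 1, 2, 3, 5, 4, 9, 11, 10, 6, 8, 7] (by decide)),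
  (perm ![0, 1, 2, 3, 11, 7, 8, 4, 9, 10, 6, 5] ![0, 1, 2, 3, 7, 11, 10, 5, 6, 8, 9, 4] (by decide)),
  (perm ![0, 1, 2, 3, 8, 10, 7, 9, 5, 11, 4, 6] ![0, 1, 2, 3, 10, 8, 11, 6, 4, 7, 5, 9] (by decide)),
  (perm ![0, 1, 2, 3, 9, 6, 4, 10, 7, 5, 11, 8] ![0, 1, 2, 3, 6, 9, 5, 8, 11, 4, 7, 10] (by decide))]

def word1 : Fin 8 → List (Fin 3) := ![[], [0], [1], [2], [0, 0], [2, 0], [0, 1], [1, 2]]

def grp1 : Subgroup (Equiv.Perm (Fin 12)) := Subgroup.closure (Set.range gen1)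

theorem rep1_mem (i : Fin 8) : rep1 i ∈ grp1 := by
  have h : ∀ i, ((word1 i).map gen1).prod = rep1 i := by decide +kernel
  rw [← h i]
  refine Subgroup.list_prod_mem _ fun x hx => ?_
  obtain ⟨a, -, rfl⟩ := List.mem_map.mp hx
  exact Subgroup.subset_closure ⟨a, rfl⟩

def cert1_1 : Fin 3 → Fin 8 → Fin 8 := ![
  ![1, 4, 6, 2, 7, 3, 5, 0],
  ![2, 3, 4, 7, 5, 0, 1, 6],
  ![3, 5, 1, 4, 6, 7, 0, 2]]

theorem cert1_spec : ∀ a i, gen1 a * rep1 i =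
    rep1 (cert1_1 a i) := by decide +kernel

theorem fix1 : ∀ g ∈ (⊥ : Subgroup (Equiv.Perm (Fin 12))), g 4 = (4 : Fin 12) := by
  intro g hg
  rw [Subgroup.mem_bot.mp hg, Equiv.Perm.one_apply]

theorem step1 : Nat.card ↥grp1 = 8 * Nat.card ↥(⊥ : Subgroup (Equiv.Perm (Fin 12))) ∧
    ∀ g ∈ grp1, g 4 = (4 : Fin 12) → g ∈ (⊥ : Subgroup (Equiv.Perm (Fin 12))) := by
  refine chain_step (Set.range gen1) (⊥ : Subgroup (Equiv.Perm (Fin 12))) 4 rep1 (fun i => (word1 i).map gen1) 0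
    (fun i g hg => ?_) (by decide +kernel) bot_le fix1 (by decide +kernel) (by decide +kernel) ?_
  · obtain ⟨a, -, rfl⟩ := List.mem_map.mp hg
    exact ⟨a, rfl⟩
  rintro _ ⟨a, rfl⟩ i
  exact ⟨cert1_1 a i, 1, one_mem _, by rw [mul_one]; exact cert1_spec a i⟩

/-- Generators at level 2. -/
def gen2 : Fin 5 → Equiv.Perm (Fin 12) := ![gs, gt, gu, gv, gw]

/-- Representatives for the orbit of 3 at level 2. -/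
def rep2 : Fin 9 → Equiv.Perm (Fin 12) := ![
  1,
  (perm ![0, 1, 2, 4, 5, 3, 7, 8, 6, 10, 11, 9] ![0, 1, 2, 5, 3, 4, 8, 6, 7, 11, 9, 10] (by decide)),
  (perm ![0, 1, 2, 6, 7, 8, 9, 10, 11, 3, 4, 5] ![0, 1, 2, 9, 10, 11, 3, 4, 5, 6, 7, 8] (by decide)),
  (perm ![0, 1, 2, 5, 3, 4, 8, 6, 7, 11, 9, 10] ![0, 1, 2, 4, 5, 3, 7, 8, 6, 10, 11, 9] (by decide)),
  (perm ![0, 1, 2, 7, 8, 6, 10, 11, 9, 4, 5, 3] ![0, 1, 2, 11, 9, 10, 5, 3, 4, 8, 6, 7] (by decide)),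
  (perm ![0, 1, 2, 10, 8, 3, 6, 4, 11, 5, 9, 7] ![0, 1, 2, 5, 7, 9, 6, 11, 4, 10, 3, 8] (by decide)),
  (perm ![0, 1, 2, 9, 10, 11, 3, 4, 5, 6, 7, 8] ![0, 1, 2, 6, 7, 8, 9, 10, 11, 3, 4, 5] (by decide)),
  (perm ![0, 1, 2, 11, 6, 4, 7, 5, 9, 3, 10, 8] ![0, 1, 2, 9, 5, 7, 4, 6, 11, 8, 10, 3] (by decide)),
  (perm ![0, 1, 2, 8, 6, 7, 11, 9, 10, 5, 3, 4] ![0, 1, 2, 10, 11, 9, 4, 5, 3, 7, 8, 6] (by decide))]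

def word2 : Fin 9 → List (Fin 5) := ![[], [0], [1], [0, 0], [1, 0], [4, 0], [1, 1], [4, 1], [1, 0, 0]]

def grp2 : Subgroup (Equiv.Perm (Fin 12)) := Subgroup.closure (Set.range gen2)

theorem rep2_mem (i : Fin 9) : rep2 i ∈ grp2 := by
  have h : ∀ i, ((word2 i).map gen2).prod = rep2 i := by decide +kernel
  rw [← h i]
  refine Subgroup.list_prod_mem _ fun x hx => ?_
  obtain ⟨a, -, rfl⟩ := List.mem_map.mp hx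
  exact Subgroup.subset_closure ⟨a, rfl⟩

def cert2_2 : Fin 5 → Fin 9 → Fin 9 := ![
  ![1, 3, 4, 0, 8, 7, 5, 6, 2],
  ![2, 4, 6, 8, 5, 1, 0, 3, 7],
  ![0, 2, 3, 6, 8, 4, 1, 5, 7],
  ![0, 4, 5, 7, 3, 6, 8, 1, 2],
  ![0, 5, 7, 8, 2, 3, 4, 6, 1]]

def cert2_1 : Fin 5 → Fin 9 → Fin 8 := ![
  ![0, 0, 0, 0, 0, 0, 6, 3, 0],
  ![0, 0, 0, 0, 6, 3, 0, 3, 6],
  ![1, 1, 1, 1, 1, 2, 1, 7, 2],
  ![2, 2, 7, 7, 2, 7, 2, 7, 2],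
  ![3, 0, 0, 3, 3, 4, 3, 4, 3]]

theorem cert2_spec : ∀ a i, gen2 a * rep2 i =
    rep2 (cert2_2 a i) * rep1 (cert2_1 a i) := by decide +kernel

theorem grp1_le : grp1 ≤ grp2 := by
  rw [grp1, Subgroup.closure_le]
  rintro x ⟨a, rfl⟩
  have h : ∀ a, ∃ a', gen2 a' = gen1 a := by decide +kernel
  obtain ⟨a', ha'⟩ := h a
  exact Subgroup.subset_closure ⟨a', ha'⟩

theorem fix2 : ∀ g ∈ grp1, g 3 = (3 : Fin 12) := by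
  refine (Subgroup.closure_le (K := MulAction.stabilizer (Equiv.Perm (Fin 12)) (3 : Fin 12))).mpr ?_
  rintro x ⟨a, rfl⟩
  exact (show ∀ a, gen1 a 3 = (3 : Fin 12) by decide +kernel) a

theorem step2 : Nat.card ↥grp2 = 9 * Nat.card ↥grp1 ∧
    ∀ g ∈ grp2, g 3 = (3 : Fin 12) → g ∈ grp1 := by
  refine chain_step (Set.range gen2) grp1 3 rep2 (fun i => (word2 i).map gen2) 0
    (fun i g hg => ?_) (by decide +kernel) grp1_le fix2 (by decide +kernel) (by decide +kernel) ?_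
  · obtain ⟨a, -, rfl⟩ := List.mem_map.mp hg
    exact ⟨a, rfl⟩
  rintro _ ⟨a, rfl⟩ i
  exact ⟨cert2_2 a i, rep1 (cert2_1 a i), (rep1_mem _), by
    simpa only [mul_assoc] using cert2_spec a i⟩

/-- Generators at level 3. -/
def gen3 : Fin 6 → Equiv.Perm (Fin 12) := ![gs, gt, gu, gv, gw, gx1]

/-- Representatives for the orbit of 0 at level 3. -/
def rep3 : Fin 10 → Equiv.Perm (Fin 12) := ![
  1,
  (perm ![3, 1, 2, 0, 4, 5, 7, 6, 10, 11, 8, 9] ![3, 1, 2, 0, 4, 5, 7, 6, 10, 11, 8, 9] (by decide)),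
  (perm ![4, 1, 2, 0, 5, 3, 8, 7, 11, 9, 6, 10] ![3, 1, 2, 5, 0, 4, 10, 7, 6, 9, 11, 8] (by decide)),
  (perm ![6, 1, 2, 0, 7, 8, 10, 9, 4, 5, 11, 3] ![3, 1, 2, 11, 8, 9, 0, 4, 5, 7, 6, 10] (by decide)),
  (perm ![5, 1, 2, 0, 3, 4, 6, 8, 9, 10, 7, 11] ![3, 1, 2, 4, 5, 0, 6, 10, 7, 8, 9, 11] (by decide)),
  (perm ![7, 1, 2, 0, 8, 6, 11, 10, 5, 3, 9, 4] ![3, 1, 2, 9, 11, 8, 5, 0, 4, 10, 7, 6] (by decide)),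
  (perm ![10, 1, 2, 0, 8, 3, 4, 6, 9, 7, 11, 5] ![3, 1, 2, 5, 6, 11, 7, 9, 4, 8, 0, 10] (by decide)),
  (perm ![9, 1, 2, 0, 10, 11, 4, 3, 7, 8, 5, 6] ![3, 1, 2, 7, 6, 10, 11, 8, 9, 0, 4, 5] (by decide)),
  (perm ![11, 1, 2, 0, 6, 4, 5, 7, 10, 8, 9, 3] ![3, 1, 2, 11, 5, 6, 4, 7, 9, 10, 8, 0] (by decide)),
  (perm ![8, 1, 2, 0, 6, 7, 9, 11, 3, 4, 10, 5] ![3, 1, 2, 8, 9, 11, 4, 5, 0, 6, 10, 7] (by decide))]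

def word3 : Fin 10 → List (Fin 6) := ![[], [5], [0, 5], [1, 5], [0, 0, 5], [1, 0, 5], [4, 0, 5], [1, 1, 5], [4, 1, 5], [1, 0, 0, 5]]

def grp3 : Subgroup (Equiv.Perm (Fin 12)) := Subgroup.closure (Set.range gen3)

theorem rep3_mem (i : Fin 10) : rep3 i ∈ grp3 := by
  have h : ∀ i, ((word3 i).map gen3).prod = rep3 i := by decide +kernel
  rw [← h i]
  refine Subgroup.list_prod_mem _ fun x hx => ?_
  obtain ⟨a, -, rfl⟩ := List.mem_map.mp hx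
  exact Subgroup.subset_closure ⟨a, rfl⟩

def cert3_3 : Fin 6 → Fin 10 → Fin 10 := ![
  ![0, 2, 4, 5, 1, 9, 8, 6, 7, 3],
  ![0, 3, 5, 7, 9, 6, 2, 1, 4, 8],
  ![0, 1, 3, 4, 7, 9, 5, 2, 6, 8],
  ![0, 1, 5, 6, 8, 4, 7, 9, 2, 3],
  ![0, 1, 6, 8, 9, 3, 4, 5, 7, 2],
  ![1, 0, 2, 5, 4, 3, 9, 8, 7, 6]]

def cert3_2 : Fin 6 → Fin 10 → Fin 9 := ![
  ![1, 0, 0, 0, 0, 0, 0, 0, 0, 0],
  ![2, 0, 0, 0, 0, 0, 0, 0, 0, 0],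
  ![0, 0, 0, 0, 0, 0, 0, 0, 0, 0],
  ![0, 0, 0, 0, 0, 0, 0, 0, 0, 0],
  ![0, 0, 0, 0, 0, 0, 0, 0, 0, 0],
  ![0, 0, 3, 6, 1, 7, 8, 7, 4, 3]]

def cert3_1 : Fin 6 → Fin 10 → Fin 8 := ![
  ![0, 0, 0, 0, 0, 0, 0, 3, 6, 0],
  ![0, 0, 0, 0, 0, 3, 6, 0, 6, 3],
  ![1, 2, 2, 2, 2, 2, 1, 2, 5, 1],
  ![2, 1, 1, 5, 5, 1, 5, 1, 5, 1],
  ![3, 6, 0, 0, 6, 6, 4, 6, 4, 6],
  ![0, 0, 4, 6, 4, 0, 6, 6, 0, 3]]

theorem cert3_spec : ∀ a i, gen3 a * rep3 i =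
    rep3 (cert3_3 a i) * rep2 (cert3_2 a i) * rep1 (cert3_1 a i) := by decide +kernel

theorem grp2_le : grp2 ≤ grp3 := by
  rw [grp2, Subgroup.closure_le]
  rintro x ⟨a, rfl⟩
  have h : ∀ a, ∃ a', gen3 a' = gen2 a := by decide +kernel
  obtain ⟨a', ha'⟩ := h a
  exact Subgroup.subset_closure ⟨a', ha'⟩

theorem fix3 : ∀ g ∈ grp2, g 0 = (0 : Fin 12) := by
  refine (Subgroup.closure_le (K := MulAction.stabilizer (Equiv.Perm (Fin 12)) (0 : Fin 12))).mpr ?_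
  rintro x ⟨a, rfl⟩
  exact (show ∀ a, gen2 a 0 = (0 : Fin 12) by decide +kernel) a

theorem step3 : Nat.card ↥grp3 = 10 * Nat.card ↥grp2 ∧
    ∀ g ∈ grp3, g 0 = (0 : Fin 12) → g ∈ grp2 := by
  refine chain_step (Set.range gen3) grp2 0 rep3 (fun i => (word3 i).map gen3) 0
    (fun i g hg => ?_) (by decide +kernel) grp2_le fix3 (by decide +kernel) (by decide +kernel) ?_
  · obtain ⟨a, -, rfl⟩ := List.mem_map.mp hg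
    exact ⟨a, rfl⟩
  rintro _ ⟨a, rfl⟩ i
  exact ⟨cert3_3 a i, rep2 (cert3_2 a i) * rep1 (cert3_1 a i), (mul_mem (rep2_mem _) (grp1_le (rep1_mem _))), by
    simpa only [mul_assoc] using cert3_spec a i⟩

/-- Generators at level 4. -/
def gen4 : Fin 7 → Equiv.Perm (Fin 12) := ![gs, gt, gu, gv, gw, gx1, gx2]

/-- Representatives for the orbit of 1 at level 4. -/
def rep4 : Fin 11 → Equiv.Perm (Fin 12) := ![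
  1,
  (perm ![1, 0, 2, 3, 4, 5, 9, 10, 11, 6, 7, 8] ![1, 0, 2, 3, 4, 5, 9, 10, 11, 6, 7, 8] (by decide)),
  (perm ![1, 3, 2, 0, 4, 5, 11, 8, 9, 7, 6, 10] ![3, 0, 2, 1, 4, 5, 10, 9, 7, 8, 11, 6] (by decide)),
  (perm ![1, 4, 2, 0, 5, 3, 9, 6, 10, 8, 7, 11] ![3, 0, 2, 5, 1, 4, 7, 10, 9, 6, 8, 11] (by decide)),
  (perm ![1, 6, 2, 0, 7, 8, 5, 11, 3, 10, 9, 4] ![3, 0, 2, 8, 11, 6, 1, 4, 5, 10, 9, 7] (by decide)),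
  (perm ![1, 5, 2, 0, 3, 4, 10, 7, 11, 6, 8, 9] ![3, 0, 2, 4, 5, 1, 9, 7, 10, 11, 6, 8] (by decide)),
  (perm ![1, 7, 2, 0, 8, 6, 3, 9, 4, 11, 10, 5] ![3, 0, 2, 6, 8, 11, 5, 1, 4, 7, 10, 9] (by decide)),
  (perm ![1, 10, 2, 0, 8, 3, 7, 11, 5, 4, 6, 9] ![3, 0, 2, 5, 9, 8, 10, 6, 4, 11, 1, 7] (by decide)),
  (perm ![1, 9, 2, 0, 10, 11, 8, 5, 6, 4, 3, 7] ![3, 0, 2, 10, 9, 7, 8, 11, 6, 1, 4, 5] (by decide)),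
  (perm ![1, 11, 2, 0, 6, 4, 8, 9, 3, 5, 7, 10] ![3, 0, 2, 8, 5, 9, 4, 10, 6, 7, 11, 1] (by decide)),
  (perm ![1, 8, 2, 0, 6, 7, 4, 10, 5, 9, 11, 3] ![3, 0, 2, 11, 6, 8, 4, 5, 1, 9, 7, 10] (by decide))]

def word4 : Fin 11 → List (Fin 7) := ![[], [6], [5, 6], [0, 5, 6], [1, 5, 6], [0, 0, 5, 6], [1, 0, 5, 6], [4, 0, 5, 6], [1, 1, 5, 6], [4, 1, 5, 6], [1, 0, 0, 5, 6]]

def grp4 : Subgroup (Equiv.Perm (Fin 12)) := Subgroup.closure (Set.range gen4)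

theorem rep4_mem (i : Fin 11) : rep4 i ∈ grp4 := by
  have h : ∀ i, ((word4 i).map gen4).prod = rep4 i := by decide +kernel
  rw [← h i]
  refine Subgroup.list_prod_mem _ fun x hx => ?_
  obtain ⟨a, -, rfl⟩ := List.mem_map.mp hx
  exact Subgroup.subset_closure ⟨a, rfl⟩

def cert4_4 : Fin 7 → Fin 11 → Fin 11 := ![
  ![0, 1, 3, 5, 6, 2, 10, 9, 7, 8, 4],
  ![0, 1, 4, 6, 8, 10, 7, 3, 2, 5, 9],
  ![0, 1, 2, 4, 5, 8, 10, 6, 3, 7, 9],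
  ![0, 1, 2, 6, 7, 9, 5, 8, 10, 3, 4],
  ![0, 1, 2, 7, 9, 10, 4, 5, 6, 8, 3],
  ![0, 2, 1, 3, 6, 5, 4, 10, 9, 8, 7],
  ![1, 0, 2, 3, 8, 5, 7, 6, 4, 10, 9]]

def cert4_3 : Fin 7 → Fin 11 → Fin 10 := ![
  ![0, 0, 0, 0, 0, 0, 0, 0, 0, 0, 0],
  ![0, 0, 0, 0, 0, 0, 0, 0, 0, 0, 0],
  ![0, 0, 0, 0, 0, 0, 0, 0, 0, 0, 0],
  ![0, 0, 0, 0, 0, 0, 0, 0, 0, 0, 0],
  ![0, 0, 0, 0, 0, 0, 0, 0, 0, 0, 0],
  ![1, 0, 0, 0, 0, 0, 0, 0, 0, 0, 0],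
  ![0, 0, 1, 1, 1, 1, 1, 1, 1, 1, 1]]

def cert4_2 : Fin 7 → Fin 11 → Fin 9 := ![
  ![1, 1, 0, 0, 0, 0, 0, 0, 0, 0, 0],
  ![2, 6, 0, 0, 0, 0, 0, 0, 0, 0, 0],
  ![0, 0, 0, 0, 0, 0, 0, 0, 0, 0, 0],
  ![0, 0, 0, 0, 0, 0, 0, 0, 0, 0, 0],
  ![0, 0, 0, 0, 0, 0, 0, 0, 0, 0, 0],
  ![0, 0, 0, 3, 2, 1, 8, 7, 8, 5, 3],
  ![0, 0, 0, 0, 0, 0, 0, 0, 0, 0, 0]]

def cert4_1 : Fin 7 → Fin 11 → Fin 8 := ![
  ![0, 0, 0, 0, 0, 0, 0, 0, 2, 5, 0],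
  ![0, 0, 0, 0, 0, 0, 2, 5, 0, 5, 2],
  ![1, 7, 3, 3, 3, 3, 3, 7, 3, 6, 7],
  ![2, 3, 7, 7, 6, 6, 7, 6, 7, 6, 7],
  ![3, 2, 5, 0, 0, 5, 5, 4, 5, 4, 5],
  ![0, 0, 0, 4, 5, 4, 2, 1, 0, 6, 2],
  ![0, 0, 0, 0, 0, 0, 1, 5, 0, 5, 1]]

theorem cert4_spec : ∀ a i, gen4 a * rep4 i =
    rep4 (cert4_4 a i) * rep3 (cert4_3 a i) * rep2 (cert4_2 a i) * rep1 (cert4_1 a i) := by decide +kernel

theorem grp3_le : grp3 ≤ grp4 := by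
  rw [grp3, Subgroup.closure_le]
  rintro x ⟨a, rfl⟩
  have h : ∀ a, ∃ a', gen4 a' = gen3 a := by decide +kernel
  obtain ⟨a', ha'⟩ := h a
  exact Subgroup.subset_closure ⟨a', ha'⟩

theorem fix4 : ∀ g ∈ grp3, g 1 = (1 : Fin 12) := by
  refine (Subgroup.closure_le (K := MulAction.stabilizer (Equiv.Perm (Fin 12)) (1 : Fin 12))).mpr ?_
  rintro x ⟨a, rfl⟩
  exact (show ∀ a, gen3 a 1 = (1 : Fin 12) by decide +kernel) a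

theorem step4 : Nat.card ↥grp4 = 11 * Nat.card ↥grp3 ∧
    ∀ g ∈ grp4, g 1 = (1 : Fin 12) → g ∈ grp3 := by
  refine chain_step (Set.range gen4) grp3 1 rep4 (fun i => (word4 i).map gen4) 0
    (fun i g hg => ?_) (by decide +kernel) grp3_le fix4 (by decide +kernel) (by decide +kernel) ?_
  · obtain ⟨a, -, rfl⟩ := List.mem_map.mp hg
    exact ⟨a, rfl⟩
  rintro _ ⟨a, rfl⟩ i
  exact ⟨cert4_4 a i, rep3 (cert4_3 a i) * rep2 (cert4_2 a i) * rep1 (cert4_1 a i), (mul_mem (mul_mem (rep3_mem _) (grp2_le (rep2_mem _))) (grp2_le (grp1_le (rep1_mem _)))), by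
    simpa only [mul_assoc] using cert4_spec a i⟩

/-- Generators at level 5. -/
def gen5 : Fin 8 → Equiv.Perm (Fin 12) := ![gs, gt, gu, gv, gw, gx1, gx2, gx3]

/-- Representatives for the orbit of 2 at level 5. -/
def rep5 : Fin 12 → Equiv.Perm (Fin 12) := ![
  1,
  (perm ![0, 2, 1, 3, 4, 5, 11, 9, 10, 7, 8, 6] ![0, 2, 1, 3, 4, 5, 11, 9, 10, 7, 8, 6] (by decide)),
  (perm ![1, 2, 0, 3, 4, 5, 8, 6, 7, 10, 11, 9] ![2, 0, 1, 3, 4, 5, 7, 8, 6, 11, 9, 10] (by decide)),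
  (perm ![1, 2, 3, 0, 4, 5, 10, 7, 6, 8, 9, 11] ![3, 0, 1, 2, 4, 5, 8, 7, 9, 10, 6, 11] (by decide)),
  (perm ![1, 2, 4, 0, 5, 3, 11, 8, 7, 6, 10, 9] ![3, 0, 1, 5, 2, 4, 9, 8, 7, 11, 10, 6] (by decide)),
  (perm ![1, 2, 6, 0, 7, 8, 4, 10, 9, 11, 3, 5] ![3, 0, 1, 10, 6, 11, 2, 4, 5, 8, 7, 9] (by decide)),
  (perm ![1, 2, 5, 0, 3, 4, 9, 6, 8, 7, 11, 10] ![3, 0, 1, 4, 5, 2, 7, 9, 8, 6, 11, 10] (by decide)),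
  (perm ![1, 2, 7, 0, 8, 6, 5, 11, 10, 9, 4, 3] ![3, 0, 1, 11, 10, 6, 5, 2, 4, 9, 8, 7] (by decide)),
  (perm ![1, 2, 10, 0, 8, 3, 9, 4, 6, 11, 5, 7] ![3, 0, 1, 5, 7, 10, 8, 11, 4, 6, 2, 9] (by decide)),
  (perm ![1, 2, 9, 0, 10, 11, 7, 4, 3, 5, 6, 8] ![3, 0, 1, 8, 7, 9, 10, 6, 11, 2, 4, 5] (by decide)),
  (perm ![1, 2, 11, 0, 6, 4, 10, 5, 7, 9, 3, 8] ![3, 0, 1, 10, 5, 7, 4, 8, 11, 9, 6, 2] (by decide)),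
  (perm ![1, 2, 8, 0, 6, 7, 3, 9, 11, 10, 5, 4] ![3, 0, 1, 6, 11, 10, 4, 5, 2, 7, 9, 8] (by decide))]

def word5 : Fin 12 → List (Fin 8) := ![[], [7], [6, 7], [5, 6, 7], [0, 5, 6, 7], [1, 5, 6, 7], [0, 0, 5, 6, 7], [1, 0, 5, 6, 7], [4, 0, 5, 6, 7], [1, 1, 5, 6, 7], [4, 1, 5, 6, 7], [1, 0, 0, 5, 6, 7]]

def grp5 : Subgroup (Equiv.Perm (Fin 12)) := Subgroup.closure (Set.range gen5)

theorem rep5_mem (i : Fin 12) : rep5 i ∈ grp5 := by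
  have h : ∀ i, ((word5 i).map gen5).prod = rep5 i := by decide +kernel
  rw [← h i]
  refine Subgroup.list_prod_mem _ fun x hx => ?_
  obtain ⟨a, -, rfl⟩ := List.mem_map.mp hx
  exact Subgroup.subset_closure ⟨a, rfl⟩

def cert5_5 : Fin 8 → Fin 12 → Fin 12 := ![
  ![0, 1, 2, 4, 6, 7, 3, 11, 10, 8, 9, 5],
  ![0, 1, 2, 5, 7, 9, 11, 8, 4, 3, 6, 10],
  ![0, 1, 2, 3, 5, 6, 9, 11, 7, 4, 8, 10],
  ![0, 1, 2, 3, 7, 8, 10, 6, 9, 11, 4, 5],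
  ![0, 1, 2, 3, 8, 10, 11, 5, 6, 7, 9, 4],
  ![0, 1, 3, 2, 4, 7, 6, 5, 11, 10, 9, 8],
  ![0, 2, 1, 3, 4, 9, 6, 8, 7, 5, 11, 10],
  ![1, 0, 2, 3, 4, 10, 6, 9, 11, 7, 5, 8]]

def cert5_4 : Fin 8 → Fin 12 → Fin 11 := ![
  ![0, 0, 0, 0, 0, 0, 0, 0, 0, 0, 0, 0],
  ![0, 0, 0, 0, 0, 0, 0, 0, 0, 0, 0, 0],
  ![0, 0, 0, 0, 0, 0, 0, 0, 0, 0, 0, 0],
  ![0, 0, 0, 0, 0, 0, 0, 0, 0, 0, 0, 0],
  ![0, 0, 0, 0, 0, 0, 0, 0, 0, 0, 0, 0],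
  ![0, 0, 0, 0, 0, 0, 0, 0, 0, 0, 0, 0],
  ![1, 0, 0, 0, 0, 0, 0, 0, 0, 0, 0, 0],
  ![0, 0, 1, 1, 1, 1, 1, 1, 1, 1, 1, 1]]

def cert5_3 : Fin 8 → Fin 12 → Fin 10 := ![
  ![0, 0, 0, 0, 0, 0, 0, 0, 0, 0, 0, 0],
  ![0, 0, 0, 0, 0, 0, 0, 0, 0, 0, 0, 0],
  ![0, 0, 0, 0, 0, 0, 0, 0, 0, 0, 0, 0],
  ![0, 0, 0, 0, 0, 0, 0, 0, 0, 0, 0, 0],
  ![0, 0, 0, 0, 0, 0, 0, 0, 0, 0, 0, 0],
  ![1, 1, 0, 0, 0, 0, 0, 0, 0, 0, 0, 0],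
  ![0, 0, 0, 1, 1, 1, 1, 1, 1, 1, 1, 1],
  ![0, 0, 0, 0, 0, 0, 0, 0, 0, 0, 0, 0]]

def cert5_2 : Fin 8 → Fin 12 → Fin 9 := ![
  ![1, 1, 1, 0, 0, 0, 0, 0, 0, 0, 0, 0],
  ![2, 7, 4, 0, 0, 0, 0, 0, 0, 0, 0, 0],
  ![0, 0, 0, 0, 0, 0, 0, 0, 0, 0, 0, 0],
  ![0, 0, 0, 0, 0, 0, 0, 0, 0, 0, 0, 0],
  ![0, 0, 0, 0, 0, 0, 0, 0, 0, 0, 0, 0],
  ![0, 0, 0, 0, 3, 7, 1, 5, 2, 5, 8, 3],
  ![0, 0, 0, 0, 0, 0, 0, 0, 0, 0, 0, 0],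
  ![0, 0, 0, 0, 0, 0, 0, 0, 0, 0, 0, 0]]

def cert5_1 : Fin 8 → Fin 12 → Fin 8 := ![
  ![0, 0, 0, 0, 0, 0, 0, 0, 0, 7, 1, 0],
  ![0, 6, 0, 0, 0, 0, 0, 7, 1, 0, 1, 7],
  ![1, 5, 2, 6, 6, 6, 6, 6, 2, 6, 3, 2],
  ![2, 7, 6, 2, 2, 3, 3, 2, 3, 2, 3, 2],
  ![3, 6, 7, 1, 0, 0, 1, 1, 4, 1, 4, 1],
  ![0, 0, 0, 0, 4, 2, 4, 5, 1, 6, 0, 7],
  ![0, 0, 0, 0, 0, 0, 0, 5, 1, 0, 1, 5],
  ![0, 0, 0, 0, 0, 1, 0, 0, 1, 0, 1, 1]]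

theorem cert5_spec : ∀ a i, gen5 a * rep5 i =
    rep5 (cert5_5 a i) * rep4 (cert5_4 a i) * rep3 (cert5_3 a i) * rep2 (cert5_2 a i) * rep1 (cert5_1 a i) := by decide +kernel

theorem grp4_le : grp4 ≤ grp5 := by
  rw [grp4, Subgroup.closure_le]
  rintro x ⟨a, rfl⟩
  have h : ∀ a, ∃ a', gen5 a' = gen4 a := by decide +kernel
  obtain ⟨a', ha'⟩ := h a
  exact Subgroup.subset_closure ⟨a', ha'⟩

theorem fix5 : ∀ g ∈ grp4, g 2 = (2 : Fin 12) := by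
  refine (Subgroup.closure_le (K := MulAction.stabilizer (Equiv.Perm (Fin 12)) (2 : Fin 12))).mpr ?_
  rintro x ⟨a, rfl⟩
  exact (show ∀ a, gen4 a 2 = (2 : Fin 12) by decide +kernel) a

theorem step5 : Nat.card ↥grp5 = 12 * Nat.card ↥grp4 ∧
    ∀ g ∈ grp5, g 2 = (2 : Fin 12) → g ∈ grp4 := by
  refine chain_step (Set.range gen5) grp4 2 rep5 (fun i => (word5 i).map gen5) 0
    (fun i g hg => ?_) (by decide +kernel) grp4_le fix5 (by decide +kernel) (by decide +kernel) ?_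
  · obtain ⟨a, -, rfl⟩ := List.mem_map.mp hg
    exact ⟨a, rfl⟩
  rintro _ ⟨a, rfl⟩ i
  exact ⟨cert5_5 a i, rep4 (cert5_4 a i) * rep3 (cert5_3 a i) * rep2 (cert5_2 a i) * rep1 (cert5_1 a i), (mul_mem (mul_mem (mul_mem (rep4_mem _) (grp3_le (rep3_mem _))) (grp3_le (grp2_le (rep2_mem _)))) (grp3_le (grp2_le (grp1_le (rep1_mem _))))), by
    simpa only [mul_assoc] using cert5_spec a i⟩

end Cfsg.Agent.MathieuTwelve
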